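import Mathlib

/-! The Heisenberg group of order `27`. -/

set_option autoImplicit false

namespace Cfsg.Agent.Recog.TriangleDeg

/-- Upper unitriangular `3 × 3` matrices over `ZMod 3`, as coordinate triples. -/
@[ext]
structure H3 : Type where
  i : ZMod 3
  j : ZMod 3
  k : ZMod 3
deriving DecidableEq

namespace H3

instance : Fintype H3 :=
  Fintype.ofEquiv (ZMod 3 × ZMod 3 × ZMod 3)
    { toFun := fun p => ⟨p.1, p.2.1, p.2.2⟩
      invFun := fun p => (p.i, p.j, p.k)
      left_inv := fun _ => rfl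
      right_inv := fun _ => rfl }

instance : Mul H3 := ⟨fun p q => ⟨p.i + q.i, p.j + q.j, p.k + q.k + p.i * q.j⟩⟩
instance : One H3 := ⟨⟨0, 0, 0⟩⟩
instance : Inv H3 := ⟨fun p => ⟨-p.i, -p.j, -p.k + p.i * p.j⟩⟩

@[simp] theorem mul_i (p q : H3) : (p * q).i = p.i + q.i := rfl
@[simp] theorem mul_j (p q : H3) : (p * q).j = p.j + q.j := rfl
@[simp] theorem mul_k (p q : H3) : (p * q).k = p.k + q.k + p.i * q.j := rfl
@[simp] theorem one_i : (1 : H3).i = 0 := rfl
@[simp] theorem one_j : (1 : H3).j = 0 := rfl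
@[simp] theorem one_k : (1 : H3).k = 0 := rfl
@[simp] theorem inv_i (p : H3) : p⁻¹.i = -p.i := rfl
@[simp] theorem inv_j (p : H3) : p⁻¹.j = -p.j := rfl
@[simp] theorem inv_k (p : H3) : p⁻¹.k = -p.k + p.i * p.j := rfl

instance : Group H3 where
  mul_assoc a b c := by ext <;> simp <;> ring
  one_mul a := by ext <;> simp
  mul_one a := by ext <;> simp
  inv_mul_cancel a := by ext <;> simp

theorem card : Nat.card H3 = 27 := by rw [Nat.card_eq_fintype_card]; rfl

theorem isPGroup : IsPGroup 3 H3 := IsPGroup.of_card (n := 3) (by rw [card]; norm_num)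

end H3

end Cfsg.Agent.Recog.TriangleDeg
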