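import Cfsg.Agent.Lib.CT.Induced
import Cfsg.Agent.Lib.Recog.TriangleDeg.Heis
import Mathlib

/-!
# The principal series of a group with the local structure of `PSU(3,3)`

A group of order `6048` with a subgroup `B = Q ⋊ T` (`Q` extraspecial of order `27`, `T` cyclic of
order `8`) and an element `w` with `B ∩ B^w = T` acting on `T` as the fifth power.
-/

set_option autoImplicit false

namespace Cfsg.Agent.Recog.TriangleDeg

open scoped ComplexConjugate Pointwise

universe u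

/-- The local data. -/
structure Borel (G : Type u) [Group G] where
  m : H3 →* G
  m_inj : Function.Injective m
  a : G
  ord : orderOf a = 8
  act : ∀ p, ∃ q, a * m p * a⁻¹ = m q
  w : G
  hwa : w * a * w⁻¹ = a ^ 5
  hmeet : ∀ (p : H3) (i : ℕ),
    (∃ (q : H3) (j : ℕ), w * (m p * a ^ i) * w⁻¹ = m q * a ^ j) → p = 1
  hu : ∀ i j : ZMod 3, ¬(i = 0 ∧ j = 0) →
    ∃ (n : ℕ) (k : ZMod 3), a ^ n * m ⟨1, 0, 0⟩ = m ⟨i, j, k⟩ * a ^ n
  hz : ∃ n : ℕ, a ^ n * m ⟨0, 0, 1⟩ = m ⟨0, 0, 2⟩ * a ^ n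

namespace Borel

variable {G : Type u} [Group G] (D : Borel G)

/-- The powers of `a`, indexed by `ZMod 8`. -/
def ap (i : ZMod 8) : G := D.a ^ i.val

theorem ap_add (i j : ZMod 8) : D.ap i * D.ap j = D.ap (i + j) := by
  rw [ap, ap, ap, ← pow_add, ZMod.val_add]
  conv_lhs => rw [← pow_mod_orderOf, D.ord]

theorem ap_zero : D.ap 0 = 1 := by simp [ap]

theorem ap_cast (n : ℕ) : D.ap (n : ZMod 8) = D.a ^ n := by
  rw [ap, ZMod.val_natCast]
  conv_rhs => rw [← pow_mod_orderOf, D.ord]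

theorem ap_inv (i : ZMod 8) : (D.ap i)⁻¹ = D.ap (-i) := by
  refine (eq_inv_of_mul_eq_one_left ?_).symm
  rw [ap_add, neg_add_cancel, ap_zero]

theorem act_pow (n : ℕ) (p : H3) : ∃ q, D.a ^ n * D.m p = D.m q * D.a ^ n := by
  induction n generalizing p with
  | zero => exact ⟨p, by simp⟩
  | succ n ih =>
    obtain ⟨q, hq⟩ := D.act p
    obtain ⟨r, hr⟩ := ih q
    refine ⟨r, ?_⟩
    calc D.a ^ (n + 1) * D.m p = D.a ^ n * (D.a * D.m p * D.a⁻¹) * D.a := by rw [pow_succ]; group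
      _ = D.m r * D.a ^ (n + 1) := by rw [hq, hr, pow_succ]; group

theorem ap_act (i : ZMod 8) (p : H3) : ∃ q, D.ap i * D.m p = D.m q * D.ap i := D.act_pow _ p

/-- The subgroup `B = Q T`. -/
def B : Subgroup G where
  carrier := {b | ∃ (p : H3) (i : ZMod 8), b = D.m p * D.ap i}
  one_mem' := ⟨1, 0, by rw [map_one, ap_zero, mul_one]⟩
  mul_mem' := by
    rintro _ _ ⟨p, i, rfl⟩ ⟨q, j, rfl⟩
    obtain ⟨r, hr⟩ := D.ap_act i q
    exact ⟨p * r, i + j, by rw [map_mul, ← ap_add, mul_assoc, ← mul_assoc (D.ap i), hr]; group⟩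
  inv_mem' := by
    rintro _ ⟨p, i, rfl⟩
    obtain ⟨r, hr⟩ := D.ap_act (-i) p⁻¹
    exact ⟨r, -i, by rw [mul_inv_rev, D.ap_inv, ← map_inv, hr]⟩

theorem m_mem (p : H3) : D.m p ∈ D.B := ⟨p, 0, by rw [ap_zero, mul_one]⟩

theorem ap_mem (i : ZMod 8) : D.ap i ∈ D.B := ⟨1, i, by rw [map_one, one_mul]⟩

theorem w_ap (i : ZMod 8) : D.w * D.ap i * D.w⁻¹ = D.ap (5 * i) := by
  rw [ap, ← conj_pow, D.hwa, ← pow_mul, ← ap_cast, Nat.cast_mul, ZMod.natCast_zmod_val]
  rfl

theorem meet {p : H3} {i : ZMod 8} (h : D.w * (D.m p * D.ap i) * D.w⁻¹ ∈ D.B) : p = 1 :=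
  D.hmeet p i.val (by
    obtain ⟨q, j, hq⟩ := h
    exact ⟨q, j.val, hq⟩)

theorem uniq {p q : H3} {i j : ZMod 8} (h : D.m p * D.ap i = D.m q * D.ap j) : p = q ∧ i = j := by
  have h1 : D.m (q⁻¹ * p) = D.ap (j + -i) := by
    rw [← D.ap_add, ← D.ap_inv, map_mul, map_inv, eq_mul_inv_iff_mul_eq, mul_assoc,
      inv_mul_eq_iff_eq_mul]
    exact h
  have h27 : orderOf (D.ap (j + -i)) ∣ 27 := by
    rw [← h1, orderOf_injective D.m D.m_inj, ← H3.card]
    exact orderOf_dvd_natCard _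
  have h8 : orderOf (D.ap (j + -i)) ∣ 8 := by
    have h := orderOf_pow_dvd (x := D.a) (j + -i).val
    rwa [D.ord] at h
  have h3 : D.ap (j + -i) = 1 :=
    orderOf_eq_one_iff.1 (Nat.dvd_one.1 (by simpa using Nat.dvd_gcd h27 h8))
  rw [h3, map_eq_one_iff D.m D.m_inj, inv_mul_eq_one] at h1
  refine ⟨h1.symm, ?_⟩
  have h4 : (j + -i).val = 0 := by
    have h5 := orderOf_dvd_of_pow_eq_one (show D.a ^ (j + -i).val = 1 from h3)
    rw [D.ord] at h5
    exact Nat.eq_zero_of_dvd_of_lt h5 (ZMod.val_lt _)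
  rw [ZMod.val_eq_zero, ← sub_eq_add_neg, sub_eq_zero] at h4
  exact h4.symm

/-- Coordinates on `B`. -/
noncomputable def coords : H3 × ZMod 8 ≃ D.B :=
  Equiv.ofBijective (fun x => ⟨D.m x.1 * D.ap x.2, x.1, x.2, rfl⟩)
    ⟨fun x y h => by
      obtain ⟨h1, h2⟩ := D.uniq (congrArg Subtype.val h)
      exact Prod.ext h1 h2,
    fun ⟨b, p, i, h⟩ => ⟨(p, i), Subtype.ext h.symm⟩⟩

theorem coords_coe (x : H3 × ZMod 8) : (D.coords x : G) = D.m x.1 * D.ap x.2 := rfl

theorem card_B : Nat.card D.B = 216 := by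
  rw [← Nat.card_congr D.coords, Nat.card_prod, H3.card]
  simp

/-- The exponent of `a`. -/
noncomputable def e (b : D.B) : ZMod 8 := (D.coords.symm b).2

theorem e_eq {b : D.B} {p : H3} {i : ZMod 8} (h : (b : G) = D.m p * D.ap i) : D.e b = i := by
  rw [e, (Equiv.symm_apply_eq D.coords).2 (show b = D.coords (p, i) from Subtype.ext h)]

theorem e_mul (b c : D.B) : D.e (b * c) = D.e b + D.e c := by
  obtain ⟨p, i, hb⟩ := b.2
  obtain ⟨q, j, hc⟩ := c.2
  obtain ⟨r, hr⟩ := D.ap_act i q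
  rw [D.e_eq hb, D.e_eq hc]
  refine D.e_eq (p := p * r) ?_
  rw [Subgroup.coe_mul, hb, hc, map_mul, ← D.ap_add, mul_assoc, ← mul_assoc (D.ap i), hr]
  group

theorem e_one : D.e 1 = 0 := D.e_eq (p := 1) (by simp [ap_zero])

theorem e_conj (b c : D.B) : D.e (c⁻¹ * b * c) = D.e b := by
  have h := D.e_mul c⁻¹ c
  rw [inv_mul_cancel, e_one] at h
  rw [e_mul, e_mul, add_right_comm, ← h, zero_add]

/-- The linear characters of `B`. -/
noncomputable def lam (k : ZMod 8) : D.B →* ℂˣ :=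
  MonoidHom.toHomUnits
    { toFun := fun b => ZMod.stdAddChar (k * D.e b)
      map_one' := by rw [e_one, mul_zero, AddChar.map_zero_eq_one]
      map_mul' := fun b c => by rw [e_mul, mul_add, AddChar.map_add_eq_mul] }

/-- The linear characters of `B`, as functions. -/
noncomputable def lf (k : ZMod 8) : D.B → ℂ := fun b => (D.lam k b : ℂ)

theorem lf_apply (k : ZMod 8) (b : D.B) : D.lf k b = ZMod.stdAddChar (k * D.e b) := rfl

theorem isIrr_lf (k : ZMod 8) : IsIrrCharacter D.B (D.lf k) := CT.isIrrCharacter_lin _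

theorem conj_stdAddChar (x : ZMod 8) :
    conj (ZMod.stdAddChar x) = ZMod.stdAddChar (-x) := by
  rw [AddChar.map_neg_eq_conj]

theorem lf_inj {k j : ZMod 8} (h : D.lf k = D.lf j) : k = j := by
  have h2 := congrFun h ⟨D.ap 1, D.ap_mem 1⟩
  rw [lf_apply, lf_apply, D.e_eq (p := 1) (i := 1) (by simp)] at h2
  simpa using ZMod.injective_stdAddChar h2

section Fin

variable [Fintype G] [Fintype D.B]

theorem inner_lf (k j : ZMod 8) : classInner (D.lf k) (D.lf j) = if k = j then 1 else 0 := by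
  split_ifs with h
  · subst h; exact CT.irr_inner_self (D.isIrr_lf k)
  · exact CT.irr_inner_of_ne (D.isIrr_lf k) (D.isIrr_lf j) fun he => h (D.lf_inj he)

/-- The induced characters. -/
noncomputable def ind (k : ZMod 8) : G → ℂ := indFun D.B (D.lf k)

theorem isChar_ind (k : ZMod 8) : IsCharacter G (D.ind k) :=
  CT.isCharacter_indFun _ (CT.isCharacter_of_isIrr (D.isIrr_lf k))

theorem ext_conj (k : ZMod 8) (c : D.B) (g : G) :
    extendByZero D.B (D.lf k) ((c : G)⁻¹ * g * c) = extendByZero D.B (D.lf k) g := by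
  by_cases hg : g ∈ D.B
  · have h' : (c : G)⁻¹ * g * c ∈ D.B := mul_mem (mul_mem (inv_mem c.2) hg) c.2
    rw [CT.extendByZero_mem _ _ h', CT.extendByZero_mem _ _ hg, lf_apply, lf_apply]
    exact congrArg (fun x => ZMod.stdAddChar (k * x)) (D.e_conj ⟨g, hg⟩ c)
  · rw [CT.extendByZero_not_mem _ _ hg, CT.extendByZero_not_mem _ _ fun h => hg ?_]
    have := mul_mem (mul_mem c.2 h) (inv_mem c.2)
    simpa [mul_assoc] using this

/-- The local sum in Mackey's formula. -/
noncomputable def S (k j : ZMod 8) (x : G) : ℂ :=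
  ∑ b : D.B, extendByZero D.B (D.lf k) (x⁻¹ * b * x) * conj (D.lf j b)

theorem S_right (k j : ZMod 8) (x : G) (c : D.B) : D.S k j (x * c) = D.S k j x := by
  unfold S
  refine Finset.sum_congr rfl fun b _ => ?_
  rw [show (x * c)⁻¹ * (b : G) * (x * c) = (c : G)⁻¹ * (x⁻¹ * b * x) * c by group, ext_conj]

theorem S_left (k j : ZMod 8) (x : G) (c : D.B) : D.S k j ((c : G) * x) = D.S k j x := by
  unfold S
  refine Fintype.sum_equiv (MulAut.conj c⁻¹).toEquiv _ _ fun b => ?_
  have h1 : ((MulAut.conj c⁻¹).toEquiv b : D.B) = c⁻¹ * b * c := by simp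
  rw [h1, lf_apply, lf_apply, e_conj]
  congr 2
  push_cast
  group

theorem S_one (k j : ZMod 8) : D.S k j 1 = if k = j then 216 else 0 := by
  have h := D.inner_lf k j
  rw [classInner, D.card_B] at h
  have h2 : D.S k j 1 = ∑ b : D.B, D.lf k b * conj (D.lf j b) := by
    simp [S, CT.extendByZero_coe]
  rw [h2]
  rw [inv_mul_eq_iff_eq_mul₀ (by norm_num)] at h
  rw [h]
  split_ifs <;> simp

theorem w_conj_mem (b : H3 × ZMod 8) (h : D.w⁻¹ * (D.coords b : G) * D.w ∈ D.B) : b.1 = 1 := by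
  obtain ⟨p, i, hp⟩ := h
  have h2 : D.w * (D.m p * D.ap i) * D.w⁻¹ = (D.coords b : G) := by rw [← hp]; group
  have h3 := D.meet (h2 ▸ (D.coords b).2)
  rw [h3, map_one, one_mul, w_ap, coords_coe] at h2
  exact (D.uniq (show D.m 1 * D.ap (5 * i) = D.m b.1 * D.ap b.2 by rw [map_one, one_mul]; exact h2)).1.symm

theorem S_w (k j : ZMod 8) : D.S k j D.w = if 5 * k = j then 8 else 0 := by
  unfold S
  rw [← D.coords.sum_comp, Fintype.sum_prod_type, Finset.sum_eq_single 1]
  · have hterm : ∀ i : ZMod 8,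
        extendByZero D.B (D.lf k) (D.w⁻¹ * (D.coords (1, i) : G) * D.w) *
          conj (D.lf j (D.coords (1, i))) = ZMod.stdAddChar (i * (5 * k - j)) := by
      intro i
      have h1 : D.w⁻¹ * (D.coords (1, i) : G) * D.w = D.ap (5 * i) := by
        rw [coords_coe, map_one, one_mul]
        have h25 : 5 * (5 * i) = i := by rw [← mul_assoc, show (5 : ZMod 8) * 5 = 1 by decide, one_mul]
        conv_lhs => rw [← h25, ← D.w_ap]
        group
      rw [h1, CT.extendByZero_mem _ _ (D.ap_mem _), lf_apply, lf_apply, conj_stdAddChar,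
        ← AddChar.map_add_eq_mul, D.e_eq (p := 1) (i := 5 * i) (by simp),
        D.e_eq (p := 1) (i := i) (D.coords_coe (1, i))]
      congr 1
      ring
    rw [Finset.sum_congr rfl fun i _ => hterm i,
      AddChar.sum_mulShift _ (ZMod.isPrimitive_stdAddChar 8)]
    simp [sub_eq_zero]
  · intro p _ hp
    refine Finset.sum_eq_zero fun i _ => ?_
    rw [CT.extendByZero_not_mem _ _ fun h => hp (D.w_conj_mem (p, i) h), zero_mul]
  · simp

theorem cell (hG : Nat.card G = 6048) {x : G} (hx : x ∉ D.B) :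
    ∃ (p : H3) (c : D.B), x = D.m p * D.w * c := by
  classical
  let f : H3 × D.B → {y : G // y ∉ D.B} := fun v => ⟨D.m v.1 * D.w * v.2, fun hmem => by
    have hwB : D.w ∈ D.B := by
      have := mul_mem (mul_mem (inv_mem (D.m_mem v.1)) hmem) (inv_mem v.2.2)
      simpa [mul_assoc] using this
    have := D.meet (p := ⟨1, 0, 0⟩) (i := 0)
      (mul_mem (mul_mem hwB (mul_mem (D.m_mem _) (D.ap_mem 0))) (inv_mem hwB))
    exact absurd this (by decide)⟩
  have hf : Function.Injective f := by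
    rintro ⟨p, b⟩ ⟨q, c⟩ h
    have h1 : D.m p * D.w * b = D.m q * D.w * c := congrArg Subtype.val h
    have h2 : D.w⁻¹ * (D.coords (q⁻¹ * p, 0) : G) * D.w = (c : G) * (b : G)⁻¹ := by
      rw [coords_coe, ap_zero, mul_one, map_mul, map_inv]
      calc _ = D.w⁻¹ * (D.m q)⁻¹ * (D.m p * D.w * b) * (b : G)⁻¹ := by group
        _ = _ := by rw [h1]; group
    have h3 := D.w_conj_mem (q⁻¹ * p, 0) (h2 ▸ mul_mem c.2 (inv_mem b.2))
    obtain rfl : q = p := inv_mul_eq_one.1 h3
    exact Prod.ext rfl (Subtype.ext (mul_left_cancel h1))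
  have hcard : Nat.card {y : G // y ∉ D.B} = 5832 := by
    rw [Nat.card_eq_fintype_card, Fintype.card_subtype_compl, ← Nat.card_eq_fintype_card,
      ← Nat.card_eq_fintype_card, hG, show Nat.card {y // y ∈ D.B} = 216 from D.card_B]
  have hc2 : Nat.card (H3 × D.B) = 5832 := by rw [Nat.card_prod, H3.card, D.card_B]
  obtain ⟨⟨p, c⟩, hpc⟩ := (hf.bijective_of_nat_card_le (by omega)).2 ⟨x, hx⟩
  exact ⟨p, c, (congrArg Subtype.val hpc).symm⟩

theorem inner_ind (hG : Nat.card G = 6048) (k j : ZMod 8) :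
    classInner (D.ind k) (D.ind j) =
      (if k = j then 1 else 0) + (if 5 * k = j then 1 else 0) := by
  classical
  rw [show D.ind j = indFun D.B (D.lf j) from rfl,
    CT.frobenius_reciprocity' D.B (CT.isClassFunction_of_isCharacter (D.isChar_ind k))]
  simp only [classInner, ind, indFun, D.card_B]
  have h1 : ∀ b : D.B, (216 : ℂ)⁻¹ * (∑ x : G, extendByZero D.B (D.lf k) (x⁻¹ * b * x)) *
      conj (D.lf j b) =
      (216 : ℂ)⁻¹ * ∑ x : G, extendByZero D.B (D.lf k) (x⁻¹ * b * x) * conj (D.lf j b) := by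
    intro b; rw [mul_assoc, Finset.sum_mul]
  rw [Finset.sum_congr rfl fun b _ => by simpa using h1 b, ← Finset.mul_sum, Finset.sum_comm,
    ← Finset.sum_filter_add_sum_filter_not Finset.univ (fun x => x ∈ D.B)]
  have hS1 : ∀ x ∈ Finset.univ.filter (fun x => x ∈ D.B),
      ∑ b : D.B, extendByZero D.B (D.lf k) (x⁻¹ * b * x) * conj (D.lf j b) =
        if k = j then (216 : ℂ) else 0 := by
    intro x hx
    rw [← D.S_one k j, ← D.S_right k j 1 ⟨x, (Finset.mem_filter.1 hx).2⟩, one_mul]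
    rfl
  have hS2 : ∀ x ∈ Finset.univ.filter (fun x => x ∉ D.B),
      ∑ b : D.B, extendByZero D.B (D.lf k) (x⁻¹ * b * x) * conj (D.lf j b) =
        if 5 * k = j then (8 : ℂ) else 0 := by
    intro x hx
    obtain ⟨p, c, rfl⟩ := D.cell hG (Finset.mem_filter.1 hx).2
    have e1 := D.S_right k j (D.m p * D.w) c
    have e2 := D.S_left k j D.w ⟨D.m p, D.m_mem p⟩
    rw [← D.S_w k j, ← e2, ← e1]
    rfl
  rw [Finset.sum_congr rfl hS1, Finset.sum_congr rfl hS2, Finset.sum_const, Finset.sum_const,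
    ← Fintype.card_subtype, ← Fintype.card_subtype, Fintype.card_subtype_compl,
    ← Nat.card_eq_fintype_card, ← Nat.card_eq_fintype_card, hG,
    show Nat.card {y // y ∈ D.B} = 216 from D.card_B]
  split_ifs <;> norm_num

/-- The induced characters take the value `1` on `Q \ 1`. -/
theorem ind_Q (hG : Nat.card G = 6048) (k : ZMod 8) {p : H3} (hp : p ≠ 1) :
    D.ind k (D.m p) = 1 := by
  classical
  simp only [ind, indFun, D.card_B]
  rw [← Finset.sum_filter_add_sum_filter_not Finset.univ (fun x => x ∈ D.B)]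
  have h1 : ∀ x ∈ Finset.univ.filter (fun x => x ∈ D.B),
      extendByZero D.B (D.lf k) (x⁻¹ * D.m p * x) = 1 := by
    intro x hx
    rw [show x = ((⟨x, (Finset.mem_filter.1 hx).2⟩ : D.B) : G) from rfl, ext_conj,
      CT.extendByZero_mem _ _ (D.m_mem p), lf_apply,
      D.e_eq (p := p) (i := 0) (by simp [ap_zero]), mul_zero, AddChar.map_zero_eq_one]
  have h2 : ∀ x ∈ Finset.univ.filter (fun x => x ∉ D.B),
      extendByZero D.B (D.lf k) (x⁻¹ * D.m p * x) = 0 := by
    intro x hx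
    refine CT.extendByZero_not_mem _ _ fun hmem => hp ?_
    obtain ⟨q, c, rfl⟩ := D.cell hG (Finset.mem_filter.1 hx).2
    have hmem' := mul_mem (mul_mem c.2 hmem) (inv_mem c.2)
    have h3 := D.w_conj_mem (q⁻¹ * p * q, 0) (by
      rw [coords_coe, ap_zero, mul_one, map_mul, map_mul, map_inv]
      simpa [mul_assoc] using hmem')
    simpa [mul_assoc] using congrArg (fun t => q * t * q⁻¹) h3
  rw [Finset.sum_congr rfl h1, Finset.sum_congr rfl h2, Finset.sum_const, Finset.sum_const,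
    ← Fintype.card_subtype, ← Nat.card_eq_fintype_card,
    show Nat.card {y // y ∈ D.B} = 216 from D.card_B]
  norm_num

theorem ind_one (hG : Nat.card G = 6048) (k : ZMod 8) : D.ind k 1 = 28 := by
  rw [ind, CT.indFun_one_eval, lf_apply, e_one, mul_zero, AddChar.map_zero_eq_one, mul_one]
  have h := Subgroup.card_mul_index D.B
  rw [D.card_B, hG] at h
  rw [show D.B.index = 28 by omega]
  norm_num

end Fin

end Borel

end Cfsg.Agent.Recog.TriangleDeg
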