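import Cfsg.Agent.Lib.Recog.TriangleDeg.Degrees
import Mathlib

/-!
# Counting the characters outside the principal series
-/

set_option autoImplicit false

namespace Cfsg.Agent.Recog.TriangleDeg

universe u

/-- The degree, the squared degree and the weighted degree arithmetic. -/
theorem cuspidal_values : ∀ d : Fin 48, ∀ l : Fin 79, d.val ∣ 6048 → ¬ 6 ∣ d.val → 8 * l.val ≤ d.val →
    6 ∣ d.val - 8 * l.val → d.val * l.val ≤ 78 → 0 < d.val →
    (d.val, l.val) ∈ ([(8, 1), (14, 1), (16, 2), (28, 2), (32, 1)] : List (ℕ × ℕ)) := by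
  decide +kernel

/-- The distribution of a sum over five kinds of values. -/
theorem sum_five {ι : Type*} [Fintype ι] (v : ι → ℕ) (p : ι → ℕ × ℕ) (F : ℕ × ℕ → ℕ)
    (hp : ∀ i, v i ≠ 0 → p i ∈ ([(8, 1), (14, 1), (16, 2), (28, 2), (32, 1)] : List (ℕ × ℕ))) :
    ∑ i, v i * F (p i) =
      (∑ i, if p i = (8, 1) then v i else 0) * F (8, 1) +
      (∑ i, if p i = (14, 1) then v i else 0) * F (14, 1) +
      (∑ i, if p i = (16, 2) then v i else 0) * F (16, 2) +
      (∑ i, if p i = (28, 2) then v i else 0) * F (28, 2) +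
      (∑ i, if p i = (32, 1) then v i else 0) * F (32, 1) := by
  simp only [Finset.sum_mul, ← Finset.sum_add_distrib]
  refine Finset.sum_congr rfl fun i _ => ?_
  by_cases hv : v i = 0
  · simp [hv]
  · have := hp i hv
    simp only [List.mem_cons, List.not_mem_nil, or_false] at this
    rcases this with h | h | h | h | h <;> simp [h]

/-- The representatives of the principal series. -/
def reps : Fin 6 → ZMod 8 := ![0, 2, 4, 6, 1, 3]

theorem deg_dvd_card {G : Type u} [Group G] [Fintype G] {χ : G → ℂ} (hχ : IsIrrCharacter G χ) :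
    CT.deg χ ∣ Nat.card G := by
  classical
  have h := CT.deg_dvd_index_of_comm (⊥ : Subgroup G) hχ (fun a b => Subsingleton.elim _ _)
  rwa [Subgroup.index_bot] at h

namespace Borel

variable {G : Type u} [Group G] [Fintype G] (D : Borel G) [Fintype D.B]

/-- The multiplicity of an irreducible character in an induced character. -/
noncomputable def cm (k : ZMod 8) (χ : IrrCharacter G) : ℕ := CT.mult (D.ind k) χ

/-- The degree. -/
noncomputable def dg (χ : IrrCharacter G) : ℕ := CT.deg (χ : G → ℂ)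

/-- The multiplicity of a non-trivial linear character of `Q`. -/
noncomputable def lv (χ : IrrCharacter G) : ℕ :=
  (D.exists_tlm (CT.isCharacter_of_isIrr χ.2)).choose_spec.choose

variable (hG : Nat.card G = 6048) (hP : ∀ lam : G →* ℂˣ, lam = 1)

theorem cast_dg (χ : IrrCharacter G) : (dg χ : ℂ) = (χ : G → ℂ) 1 :=
  (CT.deg_eq (CT.isCharacter_of_isIrr χ.2)).symm

theorem spec (χ : IrrCharacter G) : ∃ n : ℕ,
    dg χ = (∑ k : ZMod 8, D.cm k χ) + 8 * D.lv χ + 6 * n ∧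
    (27 : ℂ) * D.lv χ = (χ : G → ℂ) 1 + 2 * (χ : G → ℂ) (D.m ⟨0, 0, 1⟩) -
      3 * (χ : G → ℂ) (D.m ⟨1, 0, 0⟩) := by
  have hc := CT.isCharacter_of_isIrr χ.2
  obtain ⟨n, ht, hl, hn⟩ := (D.exists_tlm hc).choose_spec.choose_spec
  refine ⟨n, ?_, hl⟩
  have hsum := D.sum_ind_inner χ.2
  have : (D.exists_tlm hc).choose = ∑ k : ZMod 8, D.cm k χ := by
    rw [← ht, mul_right_inj' (by norm_num), ← Nat.cast_sum] at hsum
    exact (Nat.cast_injective hsum).symm
  rw [← this]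
  exact D.degree_formula hc ht hl hn

theorem sum_cm_apply (k : ZMod 8) (g : G) :
    ∑ χ : IrrCharacter G, (D.cm k χ : ℂ) * (χ : G → ℂ) g = D.ind k g := by
  conv_rhs => rw [CT.character_eq_sum (D.isChar_ind k), Finset.sum_apply]
  rfl

include hG

theorem sum_cm_dg (k : ZMod 8) : ∑ χ, D.cm k χ * dg χ = 28 := by
  have h := D.sum_cm_apply k 1
  rw [D.ind_one hG] at h
  have h2 : ((∑ χ, D.cm k χ * dg χ : ℕ) : ℂ) = ((28 : ℕ) : ℂ) := by
    push_cast
    rw [← h]
    exact Finset.sum_congr rfl fun χ _ => by rw [cast_dg]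
  exact_mod_cast h2

theorem sum_cm_lv (k : ZMod 8) : ∑ χ, D.cm k χ * D.lv χ = 1 := by
  have h1 := D.sum_cm_apply k 1
  have hz := D.sum_cm_apply k (D.m ⟨0, 0, 1⟩)
  have hu := D.sum_cm_apply k (D.m ⟨1, 0, 0⟩)
  rw [D.ind_one hG] at h1
  rw [D.ind_Q hG k (show (⟨0, 0, 1⟩ : H3) ≠ 1 by decide)] at hz
  rw [D.ind_Q hG k (show (⟨1, 0, 0⟩ : H3) ≠ 1 by decide)] at hu
  have h2 : (27 : ℂ) * ((∑ χ, D.cm k χ * D.lv χ : ℕ) : ℂ) = 27 := by
    push_cast
    rw [Finset.mul_sum]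
    have h3 : ∀ χ : IrrCharacter G, (27 : ℂ) * ((D.cm k χ : ℂ) * D.lv χ) =
        (D.cm k χ : ℂ) * (χ : G → ℂ) 1 + 2 * ((D.cm k χ : ℂ) * (χ : G → ℂ) (D.m ⟨0, 0, 1⟩)) -
          3 * ((D.cm k χ : ℂ) * (χ : G → ℂ) (D.m ⟨1, 0, 0⟩)) := by
      intro χ
      obtain ⟨n, -, hl⟩ := D.spec χ
      linear_combination (D.cm k χ : ℂ) * hl
    rw [Finset.sum_congr rfl fun χ _ => h3 χ, Finset.sum_sub_distrib, Finset.sum_add_distrib,
      ← Finset.mul_sum, ← Finset.mul_sum, h1, hz, hu]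
    norm_num
  have h4 : ((∑ χ, D.cm k χ * D.lv χ : ℕ) : ℂ) = ((1 : ℕ) : ℂ) := by
    rw [Nat.cast_one]
    exact mul_left_cancel₀ (by norm_num) (h2.trans (mul_one _).symm)
  exact_mod_cast h4

theorem sum_cm_cm (k j : ZMod 8) :
    ∑ χ, D.cm k χ * D.cm j χ = (if k = j then 1 else 0) + (if 5 * k = j then 1 else 0) := by
  have h := CT.classInner_eq_sum (f := D.ind k)
    (CT.isClassFunction_of_isCharacter (D.isChar_ind j))
  rw [D.inner_ind hG] at h
  have h2 : ((∑ χ, D.cm k χ * D.cm j χ : ℕ) : ℂ) =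
      ((((if k = j then 1 else 0) + (if 5 * k = j then 1 else 0)) : ℕ) : ℂ) := by
    push_cast
    rw [h]
    refine Finset.sum_congr rfl fun χ _ => ?_
    rw [CT.mult_spec (D.isChar_ind k) (CT.isCharacter_of_isIrr χ.2),
      CT.mult_spec (D.isChar_ind j) (CT.isCharacter_of_isIrr χ.2), Complex.conj_natCast]
    rfl
  exact_mod_cast h2

theorem cm_trivIrr (k : ZMod 8) : D.cm k (CT.trivIrr G) = if k = 0 then 1 else 0 := by
  have h : (D.cm k (CT.trivIrr G) : ℂ) = classInner (D.lf k) (D.lf 0) := by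
    show ((CT.mult (D.ind k) (fun _ : G => (1 : ℂ)) : ℕ) : ℂ) = _
    rw [← CT.mult_spec (D.isChar_ind k) CT.isCharacter_one,
      show D.ind k = indFun D.B (D.lf k) from rfl,
      CT.frobenius_reciprocity D.B _ (CT.isClassFunction_of_isCharacter CT.isCharacter_one)]
    congr 1
    funext b
    rw [lf_apply, zero_mul, AddChar.map_zero_eq_one]

  rw [inner_lf] at h
  split_ifs at h ⊢ with hk <;> exact_mod_cast h

theorem cm_five (k : ZMod 8) (hk : 5 * k ≠ k) : D.cm (5 * k) = D.cm k := by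
  funext χ
  have hirr : ∀ j : ZMod 8, 5 * j ≠ j → IsIrrCharacter G (D.ind j) := fun j hj =>
    CT.isIrr_of_inner_self (D.isChar_ind j) (by rw [D.inner_ind hG, if_pos rfl, if_neg hj, add_zero])
  have h55 : 5 * (5 * k) = k := by rw [← mul_assoc, show (5 : ZMod 8) * 5 = 1 by decide, one_mul]
  have h := CT.eq_of_inner_ne_zero (hirr (5 * k) (by rw [h55]; exact hk.symm)) (hirr k hk)
    (by rw [D.inner_ind hG, if_neg hk, if_pos h55]; norm_num)
  rw [cm, cm, h]

theorem irr_deg (k : ZMod 8) (hk : 5 * k ≠ k) :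
    ∃ χ, D.cm k χ = 1 ∧ (∀ ψ, ψ ≠ χ → D.cm k ψ = 0) ∧ dg χ = 28 ∧ D.lv χ = 1 := by
  classical
  have hsq := D.sum_cm_cm hG k k
  rw [if_pos rfl, if_neg hk, add_zero] at hsq
  obtain ⟨χ, hne⟩ : ∃ χ, D.cm k χ ≠ 0 := by
    by_contra h
    push Not at h
    simp [h] at hsq
  rw [← Finset.add_sum_erase _ _ (Finset.mem_univ χ)] at hsq
  have hp := Nat.mul_pos (Nat.pos_of_ne_zero hne) (Nat.pos_of_ne_zero hne)
  have h1 : D.cm k χ * D.cm k χ = 1 := by omega
  have hc : D.cm k χ = 1 := Nat.eq_one_of_mul_eq_one_left h1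
  have hz0 : ∑ x ∈ Finset.univ.erase χ, D.cm k x * D.cm k x = 0 := by omega
  have hz : ∀ ψ, ψ ≠ χ → D.cm k ψ = 0 := fun ψ hψ =>
    mul_self_eq_zero.1 (Finset.sum_eq_zero_iff.1 hz0 ψ (by simp [hψ]))
  have hd := D.sum_cm_dg hG k
  have hl := D.sum_cm_lv hG k
  rw [Finset.sum_eq_single χ (fun ψ _ h => by rw [hz ψ h, zero_mul]) (by simp), hc, one_mul] at hd hl
  exact ⟨χ, hc, hz, hd, hl⟩

include hP

theorem pair_deg (k : ZMod 8) (hk : 5 * k = k) :
    ∃ χ ψ, χ ≠ ψ ∧ D.cm k χ = 1 ∧ D.cm k ψ = 1 ∧ (∀ η, η ≠ χ → η ≠ ψ → D.cm k η = 0) ∧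
      D.lv χ = 0 ∧ D.lv ψ = 1 ∧
      dg χ = (if k = 0 then 1 else 7) ∧ dg ψ = (if k = 0 then 27 else 21) := by
  classical
  have hsq := D.sum_cm_cm hG k k
  rw [if_pos rfl, if_pos hk] at hsq
  have hle : ∀ χ, D.cm k χ ≤ 1 := by
    intro χ
    have := Finset.single_le_sum (f := fun c => D.cm k c * D.cm k c) (fun c _ => Nat.zero_le _)
      (Finset.mem_univ χ)
    rw [hsq] at this
    by_contra h
    have := Nat.mul_le_mul (show 2 ≤ D.cm k χ by omega) (show 2 ≤ D.cm k χ by omega)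
    omega
  have hcard : (Finset.univ.filter fun χ => D.cm k χ = 1).card = 2 := by
    rw [Finset.card_filter, show (2 : ℕ) = 1 + 1 from rfl, ← hsq]
    refine Finset.sum_congr rfl fun χ _ => ?_
    have := hle χ
    interval_cases D.cm k χ <;> simp
  obtain ⟨χ₁, χ₂, hne, hset⟩ := Finset.card_eq_two.1 hcard
  have hz : ∀ η, η ≠ χ₁ → η ≠ χ₂ → D.cm k η = 0 := by
    intro η h1 h2
    have : η ∉ Finset.univ.filter fun χ => D.cm k χ = 1 := by rw [hset]; simp [h1, h2]
    have := hle η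
    simp at *
    omega
  have hc : D.cm k χ₁ = 1 ∧ D.cm k χ₂ = 1 := by
    constructor
    · have h : χ₁ ∈ Finset.univ.filter fun χ => D.cm k χ = 1 := by rw [hset]; simp
      exact (Finset.mem_filter.1 h).2
    · have h : χ₂ ∈ Finset.univ.filter fun χ => D.cm k χ = 1 := by rw [hset]; simp
      exact (Finset.mem_filter.1 h).2
  have hexp : ∀ f : IrrCharacter G → ℕ, ∑ χ, D.cm k χ * f χ = f χ₁ + f χ₂ := by
    intro f
    rw [← Finset.sum_subset (Finset.subset_univ {χ₁, χ₂}) (fun η _ hη => by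
        simp only [Finset.mem_insert, Finset.mem_singleton, not_or] at hη
        rw [hz η hη.1 hη.2, zero_mul]), Finset.sum_pair hne, hc.1, hc.2, one_mul, one_mul]
  have hd := D.sum_cm_dg hG k
  have hl := D.sum_cm_lv hG k
  rw [hexp] at hd hl
  have ht : (∑ j, D.cm j χ₁) + (∑ j, D.cm j χ₂) = 2 := by
    rw [← hexp fun χ => ∑ j, D.cm j χ]
    simp only [Finset.mul_sum]
    rw [Finset.sum_comm, Finset.sum_congr rfl fun j _ => D.sum_cm_cm hG k j, Finset.sum_add_distrib]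
    simp
  have ht1 : 1 ≤ ∑ j, D.cm j χ₁ := hc.1 ▸ Finset.single_le_sum (f := fun j => D.cm j χ₁) (fun j _ => Nat.zero_le _) (Finset.mem_univ k)
  have ht2 : 1 ≤ ∑ j, D.cm j χ₂ := hc.2 ▸ Finset.single_le_sum (f := fun j => D.cm j χ₂) (fun j _ => Nat.zero_le _) (Finset.mem_univ k)
  have key : ∀ χ ψ, D.cm k χ = 1 → D.lv χ = 0 → (∑ j, D.cm j χ) = 1 → (∑ j, D.cm j ψ) = 1 →
      D.lv ψ = 1 → dg χ + dg ψ = 28 → D.cm k ψ = 1 →
      (∀ η, η ≠ χ → η ≠ ψ → D.cm k η = 0) →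
      dg χ = (if k = 0 then 1 else 7) ∧ dg ψ = (if k = 0 then 27 else 21) := by
    intro χ ψ hcχ hlχ htχ htψ hlψ hd hcψ hz
    obtain ⟨n, hn, -⟩ := D.spec χ
    obtain ⟨n', hn', -⟩ := D.spec ψ
    rw [htχ, hlχ] at hn
    rw [htψ, hlψ] at hn'
    have hdvd : dg χ ∣ 6048 := hG ▸ deg_dvd_card χ.2
    have hdvd' : dg ψ ∣ 6048 := hG ▸ deg_dvd_card ψ.2
    have htriv : dg χ = 1 ↔ χ = CT.trivIrr G := by
      constructor
      · intro h
        obtain ⟨lam, hlam⟩ := CT.exists_hom_of_degree_one (CT.isCharacter_of_isIrr χ.2)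
          (by rw [← cast_dg, h, Nat.cast_one])
        apply Subtype.ext
        rw [hlam, hP lam]
        funext g
        simp [CT.trivIrr]
      · rintro rfl
        simp [dg, CT.deg, CT.trivIrr]
    by_cases hk0 : k = 0
    · subst hk0
      rw [if_pos rfl, if_pos rfl]
      have h0 := D.cm_trivIrr hG 0
      rw [if_pos rfl] at h0
      have : CT.trivIrr G = χ ∨ CT.trivIrr G = ψ := by
        by_contra h
        push Not at h
        rw [hz _ h.1 h.2] at h0
        omega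
      rcases this with h | h
      · have := htriv.2 h.symm
        omega
      · have : dg ψ = 1 := by rw [← h]; simp [dg, CT.deg, CT.trivIrr]
        omega
    · rw [if_neg hk0, if_neg hk0]
      have h1 : dg χ ≠ 1 := fun h => by
        rw [htriv.1 h, D.cm_trivIrr hG, if_neg hk0] at hcχ
        omega
      have hn3 : n ≤ 4 := by omega
      interval_cases n <;> simp_all <;> omega
  rcases Nat.eq_zero_or_pos (D.lv χ₁) with h0 | h0
  · exact ⟨χ₁, χ₂, hne, hc.1, hc.2, hz, h0, by omega,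
      key χ₁ χ₂ hc.1 h0 (by omega) (by omega) (by omega) hd hc.2 hz⟩
  · exact ⟨χ₂, χ₁, hne.symm, hc.2, hc.1, fun η a b => hz η b a, by omega, by omega,
      key χ₂ χ₁ hc.2 (by omega) (by omega) (by omega) (by omega) (by omega) hc.1
        fun η a b => hz η b a⟩

omit hP in
theorem principal_le_one (χ : IrrCharacter G) : ∑ a, D.cm (reps a) χ ≤ 1 := by
  have hle : ∀ a, D.cm (reps a) χ ≤ 1 := by
    intro a
    have hsq := D.sum_cm_cm hG (reps a) (reps a)
    have := Finset.single_le_sum (f := fun c => D.cm (reps a) c * D.cm (reps a) c)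
      (fun c _ => Nat.zero_le _) (Finset.mem_univ χ)
    rw [hsq] at this
    by_contra h
    have := Nat.mul_le_mul (show 2 ≤ D.cm (reps a) χ by omega) (show 2 ≤ D.cm (reps a) χ by omega)
    split_ifs at * <;> omega
  by_cases h : ∀ a, D.cm (reps a) χ = 0
  · simp [h]
  push Not at h
  obtain ⟨a, ha⟩ := h
  rw [Finset.sum_eq_single a (fun b _ hb => ?_) (by simp)]
  · exact hle a
  · have hd : ∀ a b : Fin 6, b ≠ a → reps a ≠ reps b ∧ 5 * reps a ≠ reps b := by decide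
    have h0 := D.sum_cm_cm hG (reps a) (reps b)
    rw [if_neg (hd a b hb).1, if_neg (hd a b hb).2, add_zero] at h0
    exact (mul_eq_zero.1 (Finset.sum_eq_zero_iff.1 h0 χ (Finset.mem_univ χ))).resolve_left ha

omit hP in
theorem t_eq_zero (χ : IrrCharacter G) (h : ∑ a, D.cm (reps a) χ = 0) :
    ∑ k : ZMod 8, D.cm k χ = 0 := by
  refine Finset.sum_eq_zero fun k _ => ?_
  have h' := fun a => Finset.sum_eq_zero_iff.1 h a (Finset.mem_univ a)
  rcases (show ∀ k : ZMod 8, (∃ a, k = reps a) ∨ (∃ a, k = 5 * reps a ∧ 5 * reps a ≠ reps a) by decide) k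
    with ⟨a, rfl⟩ | ⟨a, rfl, ha⟩
  · exact h' a
  · rw [D.cm_five hG _ ha]; exact h' a

omit hP in
theorem sum_dg_lv : ∑ χ : IrrCharacter G, dg χ * D.lv χ = 224 := by
  classical
  have h2 : (27 : ℂ) * ((∑ χ : IrrCharacter G, dg χ * D.lv χ : ℕ) : ℂ) = 27 * 224 := by
    push_cast
    rw [Finset.mul_sum]
    have h3 : ∀ χ : IrrCharacter G, (27 : ℂ) * ((dg χ : ℂ) * D.lv χ) =
        (χ : G → ℂ) 1 * (χ : G → ℂ) 1 + 2 * ((χ : G → ℂ) 1 * (χ : G → ℂ) (D.m ⟨0, 0, 1⟩)) -
          3 * ((χ : G → ℂ) 1 * (χ : G → ℂ) (D.m ⟨1, 0, 0⟩)) := by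
      intro χ
      obtain ⟨n, -, hl⟩ := D.spec χ
      rw [cast_dg]
      linear_combination (χ : G → ℂ) 1 * hl
    rw [Finset.sum_congr rfl fun χ _ => h3 χ, Finset.sum_sub_distrib, Finset.sum_add_distrib,
      ← Finset.mul_sum, ← Finset.mul_sum, CT.regular_eq_sum, CT.regular_eq_sum, CT.regular_eq_sum,
      if_pos rfl, if_neg, if_neg, hG]
    · norm_num
    · rw [map_eq_one_iff D.m D.m_inj]; decide
    · rw [map_eq_one_iff D.m D.m_inj]; decide
  have h4 : ((∑ χ : IrrCharacter G, dg χ * D.lv χ : ℕ) : ℂ) = ((224 : ℕ) : ℂ) :=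
    mul_left_cancel₀ (by norm_num : (27 : ℂ) ≠ 0) (by rw [h2]; norm_num)
  exact_mod_cast h4

omit hP in
theorem sum_dg_sq : ∑ χ : IrrCharacter G, dg χ * dg χ = 6048 := by
  have h := CT.sum_degree_sq (G := G)
  rw [hG] at h
  have h2 : ((∑ χ : IrrCharacter G, dg χ * dg χ : ℕ) : ℂ) = ((6048 : ℕ) : ℂ) := by
    push_cast
    push_cast at h
    rw [← h]
    exact Finset.sum_congr rfl fun χ _ => by rw [cast_dg, pow_two]
  exact_mod_cast h2

include D in
/-- Some irreducible degree is a multiple of `6`. -/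
theorem exists_dg_six : ∃ χ : IrrCharacter G, 6 ∣ dg χ := by
  classical
  by_contra hno
  push Not at hno
  have hval : ∀ F : IrrCharacter G → ℕ, ∀ f : ℕ → ℕ → ℕ, (∀ χ, F χ = f (dg χ) (D.lv χ)) →
      ∑ χ, (∑ a, D.cm (reps a) χ) * F χ =
        f 1 0 + f 27 1 + 3 * (f 7 0 + f 21 1) + 2 * f 28 1 := by
    intro F f hF
    simp only [Finset.sum_mul]
    rw [Finset.sum_comm, Fin.sum_univ_six]
    have hp : ∀ k : ZMod 8, 5 * k = k → ∑ χ, D.cm k χ * F χ =
        if k = 0 then f 1 0 + f 27 1 else f 7 0 + f 21 1 := by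
      intro k hk
      obtain ⟨χ, ψ, hne, h1, h2, hz, l1, l2, d1, d2⟩ := D.pair_deg hG hP k hk
      rw [← Finset.sum_subset (Finset.subset_univ {χ, ψ}) (fun η _ hη => by
          simp only [Finset.mem_insert, Finset.mem_singleton, not_or] at hη
          rw [hz η hη.1 hη.2, zero_mul]), Finset.sum_pair hne, h1, h2, one_mul, one_mul, hF, hF,
        l1, l2, d1, d2]
      split_ifs <;> rfl
    have hi : ∀ k : ZMod 8, 5 * k ≠ k → ∑ χ, D.cm k χ * F χ = f 28 1 := by
      intro k hk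
      obtain ⟨χ, h1, hz, hd, hl⟩ := D.irr_deg hG k hk
      rw [Finset.sum_eq_single χ (fun ψ _ h => by rw [hz ψ h, zero_mul]) (by simp), h1, one_mul,
        hF, hd, hl]
    rw [hp (reps 0) (by decide), hp (reps 1) (by decide), hp (reps 2) (by decide),
      hp (reps 3) (by decide), hi (reps 4) (by decide), hi (reps 5) (by decide),
      if_pos (by decide), if_neg (by decide), if_neg (by decide), if_neg (by decide)]
    ring
  have hsplit : ∀ F : IrrCharacter G → ℕ,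
      (∑ χ, (∑ a, D.cm (reps a) χ) * F χ) + ∑ χ, (1 - ∑ a, D.cm (reps a) χ) * F χ = ∑ χ, F χ := by
    intro F
    rw [← Finset.sum_add_distrib]
    refine Finset.sum_congr rfl fun χ _ => ?_
    rw [← add_mul, Nat.add_sub_cancel' (D.principal_le_one hG χ), one_mul]
  have hsq := hsplit fun χ => dg χ * dg χ
  rw [hval _ (fun d _ => d * d) (fun χ => rfl), sum_dg_sq hG] at hsq
  have hdl := hsplit fun χ => dg χ * D.lv χ
  rw [hval _ (fun d l => d * l) (fun χ => rfl), D.sum_dg_lv hG] at hdl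
  have hp : ∀ χ, (1 - ∑ a, D.cm (reps a) χ) ≠ 0 →
      (dg χ, D.lv χ) ∈ ([(8, 1), (14, 1), (16, 2), (28, 2), (32, 1)] : List (ℕ × ℕ)) := by
    intro χ hv
    obtain ⟨n, hn, -⟩ := D.spec χ
    rw [D.t_eq_zero hG χ (by omega)] at hn
    have h1 := Finset.single_le_sum
      (f := fun c => (1 - ∑ a, D.cm (reps a) c) * (dg c * dg c))
      (fun c _ => Nat.zero_le _) (Finset.mem_univ χ)
    have h2 := Finset.single_le_sum
      (f := fun c => (1 - ∑ a, D.cm (reps a) c) * (dg c * D.lv c))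
      (fun c _ => Nat.zero_le _) (Finset.mem_univ χ)
    simp only [show 1 - ∑ a, D.cm (reps a) χ = 1 by omega, one_mul] at h1 h2
    have hd : dg χ < 48 := by
      by_contra h
      have := Nat.mul_le_mul (not_lt.1 h) (not_lt.1 h)
      omega
    have hpos : 0 < dg χ := CT.deg_pos χ.2
    have hdl78 : dg χ * D.lv χ ≤ 78 := by omega
    exact cuspidal_values ⟨_, hd⟩ ⟨D.lv χ, by omega⟩ (hG ▸ deg_dvd_card χ.2) (hno χ)
      (by simp only; omega) (by simp only; omega) hdl78 hpos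
  have e1 := sum_five (fun χ => 1 - ∑ a, D.cm (reps a) χ) (fun χ => (dg χ, D.lv χ))
    (fun p => p.1 * p.1) hp
  have e2 := sum_five (fun χ => 1 - ∑ a, D.cm (reps a) χ) (fun χ => (dg χ, D.lv χ))
    (fun p => p.1 * p.2) hp
  simp only at e1 e2
  rw [e1] at hsq
  rw [e2] at hdl
  omega

include D in
theorem exists_dg_twentyone : ∃ χ : IrrCharacter G, dg χ = 21 := by
  obtain ⟨χ, ψ, -, -, -, -, -, -, -, hd⟩ := D.pair_deg hG hP 2 (by decide)
  exact ⟨ψ, by rw [hd, if_neg (by decide)]⟩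

omit hP in
include D in
theorem exists_dg_twentyeight : ∃ χ : IrrCharacter G, dg χ = 28 := by
  obtain ⟨χ, -, -, hd, -⟩ := D.irr_deg hG 1 (by decide)
  exact ⟨χ, hd⟩

end Borel

end Cfsg.Agent.Recog.TriangleDeg
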