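import Cfsg.Prelude.Def_DegreeGraph
import Cfsg.Agent.Lib.CT.Degree
import Cfsg.Agent.Lib.Recog.TriangleDeg.Borel
import Mathlib

/-!
# Character degrees divisible by `6`, `14` and `21`
-/

set_option autoImplicit false

namespace Cfsg.Agent.Recog.TriangleDeg

open scoped ComplexConjugate

universe u

theorem exists_k_conj : ∀ i j k k' : ZMod 3, ¬(i = 0 ∧ j = 0) →
    ∃ g : H3, g * ⟨i, j, k⟩ * g⁻¹ = ⟨i, j, k'⟩ := by
  decide +kernel

theorem stdAddChar_three (i : ZMod 3) :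
    ZMod.stdAddChar i = if i = 0 then 1 else if i = 1 then ZMod.stdAddChar (1 : ZMod 3)
      else -1 - ZMod.stdAddChar (1 : ZMod 3) := by
  have hsum : ∑ x : ZMod 3, ZMod.stdAddChar x = 0 := by
    refine AddChar.sum_eq_zero_of_ne_one fun h => ?_
    exact absurd (ZMod.injective_stdAddChar
      (show ZMod.stdAddChar (1 : ZMod 3) = ZMod.stdAddChar 0 by rw [h]; rfl)) (by decide)
  rw [show (Finset.univ : Finset (ZMod 3)) = {0, 1, 2} by decide, Finset.sum_insert (by decide),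
    Finset.sum_insert (by decide), Finset.sum_singleton, AddChar.map_zero_eq_one] at hsum
  rcases (show ∀ i : ZMod 3, i = 0 ∨ i = 1 ∨ i = 2 by decide) i with rfl | rfl | rfl
  · simp
  · simp
  · rw [if_neg (by decide), if_neg (by decide)]
    linear_combination hsum

theorem sum_H3 (f : H3 → ℂ) :
    ∑ p : H3, f p = ∑ i : ZMod 3, ∑ j : ZMod 3, ∑ k : ZMod 3, f ⟨i, j, k⟩ := by
  rw [← Fintype.sum_prod_type', ← Fintype.sum_prod_type']
  exact (Fintype.sum_equiv
    { toFun := fun x : (ZMod 3 × ZMod 3) × ZMod 3 => (⟨x.1.1, x.1.2, x.2⟩ : H3)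
      invFun := fun p => ((p.i, p.j), p.k)
      left_inv := fun _ => rfl
      right_inv := fun _ => rfl } _ _ fun _ => rfl).symm

namespace Borel

variable {G : Type u} [Group G] [Fintype G] (D : Borel G)

theorem chi_Q {χ : G → ℂ} (hχ : IsClassFunction G χ) (p : H3) :
    χ (D.m p) = if p.i = 0 ∧ p.j = 0 then (if p.k = 0 then χ 1 else χ (D.m ⟨0, 0, 1⟩))
      else χ (D.m ⟨1, 0, 0⟩) := by
  obtain ⟨i, j, k⟩ := p
  split_ifs with hij hk
  · obtain ⟨rfl, rfl⟩ := hij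
    obtain rfl : k = 0 := hk
    rw [show (⟨0, 0, 0⟩ : H3) = 1 from rfl, map_one]
  · obtain ⟨rfl, rfl⟩ := hij
    rcases (show ∀ k : ZMod 3, k = 0 ∨ k = 1 ∨ k = 2 by decide) k with rfl | rfl | rfl
    · exact absurd rfl hk
    · rfl
    · obtain ⟨n, hn⟩ := D.hz
      rw [← hχ (D.m ⟨0, 0, 1⟩) (D.a ^ n), hn, mul_inv_cancel_right]
  · obtain ⟨n, k₀, hn⟩ := D.hu i j hij
    obtain ⟨g, hg⟩ := exists_k_conj i j k k₀ hij
    rw [← hχ (D.m ⟨1, 0, 0⟩) (D.a ^ n), hn, mul_inv_cancel_right, ← hg, map_mul, map_mul, map_inv,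
      hχ]

theorem sum_Q {χ : G → ℂ} (hχ : IsClassFunction G χ) (c : ZMod 3 → ℂ) :
    (∑ p : H3, χ (D.m p) * c p.i) =
      c 0 * (χ 1 + 2 * χ (D.m ⟨0, 0, 1⟩) + 6 * χ (D.m ⟨1, 0, 0⟩)) +
        9 * (c 1 + c 2) * χ (D.m ⟨1, 0, 0⟩) := by
  rw [Finset.sum_congr rfl fun p _ => by rw [D.chi_Q hχ p], sum_H3]
  simp only [show (Finset.univ : Finset (ZMod 3)) = {0, 1, 2} by decide]
  simp (config := {decide := true}) [Finset.sum_insert]
  ring

/-- The multiplicities attached to the restriction of a character to `Q`. -/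
theorem exists_tlm {χ : G → ℂ} (hχ : IsCharacter G χ) :
    ∃ t l n : ℕ, (27 : ℂ) * t = χ 1 + 2 * χ (D.m ⟨0, 0, 1⟩) + 24 * χ (D.m ⟨1, 0, 0⟩) ∧
      (27 : ℂ) * l = χ 1 + 2 * χ (D.m ⟨0, 0, 1⟩) - 3 * χ (D.m ⟨1, 0, 0⟩) ∧
      (9 : ℂ) * n = χ 1 - χ (D.m ⟨0, 0, 1⟩) := by
  classical
  have hcl := CT.isClassFunction_of_isCharacter hχ
  have hres := CT.isCharacter_comp D.m hχ
  have hcc : ∀ x : ZMod 3, conj (ZMod.stdAddChar x) = ZMod.stdAddChar (-x) := fun x => by
    rw [AddChar.map_neg_eq_conj]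
  obtain ⟨t, ht⟩ := CT.classInner_character_nat hres CT.isCharacter_one
  let ψ : H3 →* ℂˣ := MonoidHom.toHomUnits
    { toFun := fun p => ZMod.stdAddChar p.i
      map_one' := AddChar.map_zero_eq_one _
      map_mul' := fun p q => AddChar.map_add_eq_mul _ _ _ }
  obtain ⟨l, hl⟩ := CT.classInner_character_nat hres (CT.isCharacter_lin ψ)
  let ι : Multiplicative (ZMod 3 × ZMod 3) →* H3 :=
    { toFun := fun x => ⟨0, x.toAdd.1, x.toAdd.2⟩
      map_one' := rfl
      map_mul' := fun x y => by ext <;> simp }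
  let ν : Multiplicative (ZMod 3 × ZMod 3) →* ℂˣ := MonoidHom.toHomUnits
    { toFun := fun x => ZMod.stdAddChar x.toAdd.2
      map_one' := AddChar.map_zero_eq_one _
      map_mul' := fun p q => AddChar.map_add_eq_mul _ _ _ }
  obtain ⟨n, hn⟩ := CT.classInner_character_nat (CT.isCharacter_comp ι hres) (CT.isCharacter_lin ν)
  refine ⟨t, l, n, ?_, ?_, ?_⟩
  · rw [← ht, classInner, H3.card]
    rw [D.sum_Q hcl (fun _ => conj 1), map_one]
    push_cast
    ring
  · rw [← hl, classInner, H3.card]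
    have h : (∑ p : H3, χ (D.m p) * conj ((ψ p : ℂˣ) : ℂ)) =
        ∑ p : H3, χ (D.m p) * conj (ZMod.stdAddChar p.i) := rfl
    rw [h, D.sum_Q hcl (fun i => conj (ZMod.stdAddChar i))]
    simp only [hcc]
    rw [stdAddChar_three (-0), stdAddChar_three (-1), stdAddChar_three (-2)]
    simp (config := {decide := true})
    ring
  · rw [← hn, classInner, Nat.card_congr Multiplicative.toAdd, Nat.card_prod, Nat.card_zmod]
    have h : (∑ x : Multiplicative (ZMod 3 × ZMod 3), χ (D.m (ι x)) * conj ((ν x : ℂˣ) : ℂ)) =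
        ∑ j : ZMod 3, ∑ k : ZMod 3, χ (D.m ⟨0, j, k⟩) * conj (ZMod.stdAddChar k) := by
      rw [← Fintype.sum_prod_type']
      exact Fintype.sum_equiv Multiplicative.toAdd _ _ fun _ => rfl
    rw [h]
    rw [Finset.sum_congr rfl fun j _ => Finset.sum_congr rfl fun k _ => by
      rw [hcc k, D.chi_Q hcl ⟨0, j, k⟩]]
    simp only [show (Finset.univ : Finset (ZMod 3)) = {0, 1, 2} by decide]
    have h1 : ZMod.stdAddChar (-1 : ZMod 3) = -1 - ZMod.stdAddChar (1 : ZMod 3) := by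
      rw [stdAddChar_three (-1)]; simp (config := {decide := true})
    simp (config := {decide := true}) [Finset.sum_insert, h1, show (-2 : ZMod 3) = 1 by decide]
    ring

theorem degree_formula {χ : G → ℂ} (hχ : IsCharacter G χ) {t l n : ℕ}
    (ht : (27 : ℂ) * t = χ 1 + 2 * χ (D.m ⟨0, 0, 1⟩) + 24 * χ (D.m ⟨1, 0, 0⟩))
    (hl : (27 : ℂ) * l = χ 1 + 2 * χ (D.m ⟨0, 0, 1⟩) - 3 * χ (D.m ⟨1, 0, 0⟩))
    (hn : (9 : ℂ) * n = χ 1 - χ (D.m ⟨0, 0, 1⟩)) : CT.deg χ = t + 8 * l + 6 * n := by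
  have h : ((CT.deg χ : ℕ) : ℂ) = ((t + 8 * l + 6 * n : ℕ) : ℂ) := by
    push_cast
    rw [← CT.deg_eq hχ]
    linear_combination (-1 / 27 : ℂ) * ht - (8 / 27 : ℂ) * hl - (2 / 3 : ℂ) * hn
  exact_mod_cast h

variable [Fintype D.B]

theorem sum_lf (b : D.B) : (∑ k : ZMod 8, conj (D.lf k b)) = if D.e b = 0 then 8 else 0 := by
  simp only [lf_apply, conj_stdAddChar, ← mul_neg]
  rw [AddChar.sum_mulShift _ (ZMod.isPrimitive_stdAddChar 8)]
  simp

/-- The fixed points of `Q` are seen by the induced characters. -/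
theorem sum_ind_inner {χ : G → ℂ} (hχ : IsIrrCharacter G χ) :
    (27 : ℂ) * ∑ k : ZMod 8, (CT.mult (D.ind k) χ : ℂ) =
      χ 1 + 2 * χ (D.m ⟨0, 0, 1⟩) + 24 * χ (D.m ⟨1, 0, 0⟩) := by
  classical
  have hc := CT.isCharacter_of_isIrr hχ
  have hm : ∀ k, (CT.mult (D.ind k) χ : ℂ) = classInner (fun b : D.B => χ b) (D.lf k) := by
    intro k
    rw [← CT.mult_spec (D.isChar_ind k) hc,
      CT.classInner_comm_of_char (D.isChar_ind k) hc,
      show D.ind k = indFun D.B (D.lf k) from rfl,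
      CT.frobenius_reciprocity' D.B (CT.isClassFunction_of_isCharacter hc)]
  rw [Finset.sum_congr rfl fun k _ => hm k]
  simp only [classInner, D.card_B, ← Finset.mul_sum]
  rw [Finset.sum_comm]
  simp only [← Finset.mul_sum, sum_lf]
  rw [← D.coords.sum_comp, Fintype.sum_prod_type]
  have he : ∀ (p : H3) (i : ZMod 8), D.e (D.coords (p, i)) = i := fun p i =>
    D.e_eq (D.coords_coe (p, i))
  simp only [he]
  have hsum : ∀ p : H3, (∑ i : ZMod 8, χ (D.coords (p, i)) * if i = 0 then (8 : ℂ) else 0) =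
      χ (D.m p) * ((fun _ : ZMod 3 => (8 : ℂ)) p.i) := by
    intro p
    rw [Finset.sum_eq_single 0 (fun i _ hi => by rw [if_neg hi, mul_zero]) (by simp), if_pos rfl,
      coords_coe, D.ap_zero, mul_one]
  rw [Finset.sum_congr rfl fun p _ => hsum p,
    D.sum_Q (CT.isClassFunction_of_isCharacter hc) (fun _ => 8)]
  push_cast
  ring

end Borel

end Cfsg.Agent.Recog.TriangleDeg
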