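import Cfsg.Agent.Lib.Recog.PSUThreeThreeSpectrum
import Cfsg.Agent.Lib.Recog.TriangleDeg.Borel
import Mathlib

/-!
# The Borel data of `SU(3,3)`
-/

set_option autoImplicit false
set_option maxRecDepth 20000

namespace Cfsg.Agent.Recog.TriangleDeg

open Matrix Cfsg.Agent.Recog.PSUThreeThreeSpectrum

/-- The homomorphism given by elements satisfying the relations of `H3`. -/
def homOfRel {G : Type*} [Group G] (x y z : G) (hx : x ^ 3 = 1) (hy : y ^ 3 = 1) (hz : z ^ 3 = 1)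
    (hxz : z * x = x * z) (hyz : z * y = y * z) (hxy : x * y = y * x * z) : H3 →* G where
  toFun p := y ^ p.j.val * x ^ p.i.val * z ^ p.k.val
  map_one' := by simp
  map_mul' p q := by
    have hxy' : ∀ n : ℕ, x * y ^ n = y ^ n * (x * z ^ n) := by
      intro n
      induction n with
      | zero => simp
      | succ n ih =>
        calc x * y ^ (n + 1) = x * y ^ n * y := by rw [pow_succ, mul_assoc]
          _ = y ^ n * (x * (z ^ n * y)) := by rw [ih, mul_assoc, mul_assoc]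
          _ = y ^ n * (x * y * z ^ n) := by rw [(Commute.pow_left hyz n).eq, ← mul_assoc x]
          _ = y ^ (n + 1) * (x * (z * z ^ n)) := by rw [hxy, pow_succ]; simp only [mul_assoc]
          _ = _ := by rw [← pow_succ']
    have hpow : ∀ m n : ℕ, x ^ m * y ^ n = y ^ n * (x ^ m * z ^ (m * n)) := by
      intro m n
      induction m with
      | zero => simp
      | succ m ih =>
        calc x ^ (m + 1) * y ^ n = x * (x ^ m * y ^ n) := by rw [pow_succ', mul_assoc]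
          _ = x * y ^ n * (x ^ m * z ^ (m * n)) := by rw [ih, mul_assoc]
          _ = y ^ n * (x * (z ^ n * x ^ m) * z ^ (m * n)) := by rw [hxy']; simp only [mul_assoc]
          _ = y ^ n * (x * (x ^ m * z ^ n) * z ^ (m * n)) := by
              rw [(Commute.pow_pow hxz n m).eq]
          _ = _ := by
              rw [pow_succ' x, add_mul, one_mul, add_comm (m * n), pow_add z]
              simp only [mul_assoc]
    have hmod : ∀ {g : G}, g ^ 3 = 1 → ∀ n : ℕ, g ^ ((n : ZMod 3)).val = g ^ n := fun hg n => by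
      rw [ZMod.val_natCast, ← pow_eq_pow_mod n hg]
    have hk : p.k + q.k + p.i * q.j =
        ((p.k.val + q.k.val + p.i.val * q.j.val : ℕ) : ZMod 3) := by push_cast; simp
    have hi : p.i + q.i = ((p.i.val + q.i.val : ℕ) : ZMod 3) := by push_cast; simp
    have hj : p.j + q.j = ((p.j.val + q.j.val : ℕ) : ZMod 3) := by push_cast; simp
    simp only [H3.mul_i, H3.mul_j, H3.mul_k]
    rw [hi, hj, hk, hmod hx, hmod hy, hmod hz]
    have c1 := (Commute.pow_pow hyz p.k.val q.j.val).eq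
    have c2 := (Commute.pow_pow hxz (p.k.val + p.i.val * q.j.val) q.i.val).eq
    symm
    calc _ = y ^ p.j.val * x ^ p.i.val * (z ^ p.k.val * y ^ q.j.val) * x ^ q.i.val * z ^ q.k.val := by
          simp only [mul_assoc]
      _ = y ^ p.j.val * (x ^ p.i.val * y ^ q.j.val) * z ^ p.k.val * x ^ q.i.val * z ^ q.k.val := by
          rw [c1]; simp only [mul_assoc]
      _ = y ^ (p.j.val + q.j.val) * x ^ p.i.val *
            (z ^ (p.k.val + p.i.val * q.j.val) * x ^ q.i.val) * z ^ q.k.val := by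
          rw [hpow, pow_add y, add_comm p.k.val, pow_add z]; simp only [mul_assoc]
      _ = _ := by
          rw [c2, show p.k.val + q.k.val + p.i.val * q.j.val =
            (p.k.val + p.i.val * q.j.val) + q.k.val by ring, pow_add x, pow_add z]
          simp only [pow_add, mul_assoc]

def sx : SL9 := ⟨!![⟨0, 0⟩, ⟨0, 0⟩, ⟨1, 0⟩; ⟨1, 0⟩, ⟨0, 0⟩, ⟨0, 0⟩; ⟨0, 0⟩, ⟨1, 0⟩, ⟨0, 0⟩], by decide +kernel⟩
def sy : SL9 := ⟨!![⟨0, 0⟩, ⟨2, 1⟩, ⟨2, 2⟩; ⟨2, 1⟩, ⟨0, 2⟩, ⟨2, 0⟩; ⟨2, 2⟩, ⟨2, 0⟩, ⟨0, 1⟩], by decide +kernel⟩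
def sz : SL9 := ⟨!![⟨1, 1⟩, ⟨0, 1⟩, ⟨0, 1⟩; ⟨0, 1⟩, ⟨1, 1⟩, ⟨0, 1⟩; ⟨0, 1⟩, ⟨0, 1⟩, ⟨1, 1⟩], by decide +kernel⟩
def sa : SL9 := ⟨!![⟨0, 0⟩, ⟨1, 1⟩, ⟨1, 1⟩; ⟨2, 2⟩, ⟨0, 1⟩, ⟨0, 2⟩; ⟨2, 2⟩, ⟨0, 2⟩, ⟨0, 1⟩], by decide +kernel⟩
def sw : SL9 := ⟨!![⟨1, 0⟩, ⟨0, 0⟩, ⟨0, 0⟩; ⟨0, 0⟩, ⟨2, 0⟩, ⟨0, 0⟩; ⟨0, 0⟩, ⟨0, 0⟩, ⟨2, 0⟩], by decide +kernel⟩

theorem mem_of_check (g : SL9) (h : g.1.transpose * (g.1.map fun x => x * x * x) = 1) :
    g ∈ Cfsg.SU 3 R9 3 := by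
  obtain ⟨f, hf⟩ := exists_frob (F := R9) card_R9
  rw [mem_SU_iff f hf, show g.1.map f = g.1.map fun x => x * x * x from
    Matrix.ext fun i j => by simp [hf, pow_succ]]
  exact h

abbrev L := ↥(Cfsg.SU 3 R9 3)

def lx : L := ⟨sx, mem_of_check sx (by decide +kernel)⟩
def ly : L := ⟨sy, mem_of_check sy (by decide +kernel)⟩
def lz : L := ⟨sz, mem_of_check sz (by decide +kernel)⟩
def la : L := ⟨sa, mem_of_check sa (by decide +kernel)⟩
def lw : L := ⟨sw, mem_of_check sw (by decide +kernel)⟩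

theorem rel_x : sx * sx * sx = 1 := by decide +kernel
theorem rel_y : sy * sy * sy = 1 := by decide +kernel
theorem rel_z : sz * sz * sz = 1 := by decide +kernel
theorem rel_zx : sz * sx = sx * sz := by decide +kernel
theorem rel_zy : sz * sy = sy * sz := by decide +kernel
theorem rel_xy : sx * sy = sy * sx * sz := by decide +kernel

def lm : H3 →* L := homOfRel lx ly lz
  (Subtype.ext (by rw [Subgroup.coe_pow, pow_succ, pow_two]; exact rel_x))
  (Subtype.ext (by rw [Subgroup.coe_pow, pow_succ, pow_two]; exact rel_y))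
  (Subtype.ext (by rw [Subgroup.coe_pow, pow_succ, pow_two]; exact rel_z))
  (Subtype.ext rel_zx) (Subtype.ext rel_zy) (Subtype.ext rel_xy)

/-- The matrix of `lm`. -/
def sm (p : H3) : SL9 := sy ^ p.j.val * sx ^ p.i.val * sz ^ p.k.val

theorem coe_lm (p : H3) : ((lm p : L) : SL9) = sm p := by
  simp [lm, homOfRel, sm, lx, ly, lz]

theorem sm_inj : ∀ p : H3, sm p = 1 → p = 1 := by decide +kernel

theorem la_ord : sa ^ 8 = 1 ∧ sa ^ 4 ≠ 1 := by
  simp only [pow_succ, pow_zero, one_mul]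
  decide +kernel

theorem sw_sq : sw * sw = 1 := by decide +kernel

theorem sw_sa : sw * sa = sa ^ 5 * sw := by decide +kernel

theorem sa_gens : sa * sm ⟨1, 0, 0⟩ = sm ⟨1, 2, 1⟩ * sa ∧ sa * sm ⟨0, 1, 0⟩ = sm ⟨1, 1, 2⟩ * sa ∧
    sa * sm ⟨0, 0, 1⟩ = sm ⟨0, 0, 2⟩ * sa := by
  decide +kernel

/-- `g` fixes the isotropic point `⟨(1,1,1)⟩`. -/
def Eig (g : SL9) : Prop := ∃ c : R9, g.1 *ᵥ (fun _ => (1 : R9)) = fun _ => c

theorem Eig.mul {g h : SL9} (hg : Eig g) (hh : Eig h) : Eig (g * h) := by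
  obtain ⟨c, hc⟩ := hg
  obtain ⟨d, hd⟩ := hh
  refine ⟨d * c, ?_⟩
  rw [Matrix.SpecialLinearGroup.coe_mul, ← Matrix.mulVec_mulVec, hd,
    show (fun _ : Fin 3 => d) = d • (fun _ : Fin 3 => (1 : R9)) from funext fun _ => (mul_one d).symm,
    Matrix.mulVec_smul, hc]
  rfl

theorem Eig.pow {g : SL9} (hg : Eig g) (n : ℕ) : Eig (g ^ n) := by
  induction n with
  | zero => exact ⟨1, by simp⟩
  | succ n ih => rw [pow_succ]; exact ih.mul hg

theorem eig_gens : Eig sx ∧ Eig sy ∧ Eig sz ∧ Eig sa := by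
  refine ⟨⟨⟨1, 0⟩, ?_⟩, ⟨⟨1, 0⟩, ?_⟩, ⟨⟨1, 0⟩, ?_⟩, ⟨⟨2, 2⟩, ?_⟩⟩ <;> decide +kernel

theorem eig_B (q : H3) (j : ℕ) : Eig (sm q * sa ^ j) :=
  (((eig_gens.2.1.pow _).mul (eig_gens.1.pow _)).mul (eig_gens.2.2.1.pow _)).mul (eig_gens.2.2.2.pow j)

theorem meet_check : ∀ (p : H3) (i : Fin 8),
    (let A := sw * (sm p * sa ^ i.val) * sw
     A.1 0 0 + A.1 0 1 + A.1 0 2 = A.1 1 0 + A.1 1 1 + A.1 1 2 ∧
     A.1 0 0 + A.1 0 1 + A.1 0 2 = A.1 2 0 + A.1 2 1 + A.1 2 2) → p = 1 := by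
  decide +kernel

theorem orbit_check : ∀ i j : ZMod 3, ¬(i = 0 ∧ j = 0) →
    ∃ (n : Fin 8) (k : ZMod 3), sa ^ n.val * sm ⟨1, 0, 0⟩ = sm ⟨i, j, k⟩ * sa ^ n.val := by
  decide +kernel

/-- The data. -/
def data : Borel L where
  m := lm
  m_inj := (injective_iff_map_eq_one lm).2 fun p hp => sm_inj p (by rw [← coe_lm, hp]; rfl)
  a := la
  ord := by
    haveI : Fact (Nat.Prime 2) := ⟨Nat.prime_two⟩
    refine orderOf_eq_prime_pow (p := 2) (n := 2) (fun h => la_ord.2 ?_) (Subtype.ext ?_)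
    · exact congrArg Subtype.val h
    · exact la_ord.1
  act := by
    have hgen : ∀ p q : H3, sa * sm p = sm q * sa → la * lm p * la⁻¹ = lm q := by
      intro p q h
      rw [mul_inv_eq_iff_eq_mul]
      apply Subtype.ext
      rw [Subgroup.coe_mul, Subgroup.coe_mul, coe_lm, coe_lm]
      exact h
    intro p
    have hp : ∀ p : H3,
        p = ⟨0, 1, 0⟩ ^ p.j.val * ⟨1, 0, 0⟩ ^ p.i.val * ⟨0, 0, 1⟩ ^ p.k.val := by decide +kernel
    refine ⟨⟨1, 1, 2⟩ ^ p.j.val * ⟨1, 2, 1⟩ ^ p.i.val * ⟨0, 0, 2⟩ ^ p.k.val, ?_⟩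
    rw [hp p, ← MulAut.conj_apply]
    simp only [map_mul, map_pow, MulAut.conj_apply, hgen _ _ sa_gens.1, hgen _ _ sa_gens.2.1,
      hgen _ _ sa_gens.2.2]
    rw [← hp p]
  w := lw
  hwa := by rw [mul_inv_eq_iff_eq_mul]; exact Subtype.ext sw_sa
  hmeet := by
    rintro p i ⟨q, j, h⟩
    have h' := congrArg Subtype.val h
    simp only [Subgroup.coe_mul, Subgroup.coe_pow, InvMemClass.coe_inv, coe_lm] at h'
    change sw * (sm p * sa ^ i) * sw⁻¹ = sm q * sa ^ j at h'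
    rw [inv_eq_of_mul_eq_one_right sw_sq, pow_eq_pow_mod i la_ord.1] at h'
    obtain ⟨c, hc⟩ := eig_B q j
    rw [← h'] at hc
    refine meet_check p ⟨i % 8, Nat.mod_lt _ (by norm_num)⟩ ⟨?_, ?_⟩
    all_goals
      have h0 := congrFun hc 0
      have h1 := congrFun hc 1
      have h2 := congrFun hc 2
      simp only [Matrix.mulVec, dotProduct, Fin.sum_univ_three, mul_one] at h0 h1 h2
    · exact h0.trans h1.symm
    · exact h0.trans h2.symm
  hu := fun i j h => by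
    obtain ⟨n, k, hn⟩ := orbit_check i j h
    refine ⟨n.val, k, Subtype.ext ?_⟩
    simp only [Subgroup.coe_mul, Subgroup.coe_pow, coe_lm]
    exact hn
  hz := ⟨1, Subtype.ext (by
    simp only [Subgroup.coe_mul, Subgroup.coe_pow, coe_lm, pow_one]
    exact sa_gens.2.2)⟩

end Cfsg.Agent.Recog.TriangleDeg
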