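import Cfsg.Prelude.Def_DegreeGraph
import Cfsg.Agent.Lib.CT.Induced
import Cfsg.Agent.Lib.CT.Degree
import Cfsg.Agent.Lib.Recog.TriangleDeg.Heis
import Mathlib

/-!
# A solvable group of order `6048` with an irreducible character of degree `42`
-/

set_option autoImplicit false

namespace Cfsg.Agent.Recog.TriangleDeg

open scoped ComplexConjugate

universe u v

/-- A linear character of a normal subgroup with trivial inertia induces irreducibly. -/
theorem exists_irr_of_inertia {G : Type u} [Group G] [Fintype G] (A : Subgroup G) [A.Normal]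
    {n : ℕ} [NeZero n] (f : A → ZMod n)
    (hf : ∀ a b : A, f (a * b) = f a + f b)
    (hg : ∀ g : G, g ∉ A → ∃ a : A,
      f ⟨g * a * g⁻¹, Subgroup.Normal.conj_mem inferInstance (a : G) a.2 g⟩ ≠ f a) :
    ∃ χ : G → ℂ, IsIrrCharacter G χ ∧ χ 1 = (A.index : ℂ) := by
  classical
  haveI := Fintype.ofFinite A
  let ν : A →* ℂˣ := MonoidHom.toHomUnits
    { toFun := fun a => ZMod.stdAddChar (f a)
      map_one' := by
        have h := hf 1 1
        rw [mul_one, left_eq_add] at h
        rw [h, AddChar.map_zero_eq_one]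
      map_mul' := fun a b => by rw [hf, AddChar.map_add_eq_mul] }
  let θ : A → ℂ := fun a => (ν a : ℂ)
  have hθ : IsIrrCharacter A θ := CT.isIrrCharacter_lin ν
  have hχ := CT.isCharacter_indFun A (CT.isCharacter_of_isIrr hθ)
  refine ⟨indFun A θ, CT.isIrr_of_inner_self hχ ?_, ?_⟩
  · rw [CT.frobenius_reciprocity' A (CT.isClassFunction_of_isCharacter hχ),
      CT.restrict_indFun A θ, CT.classInner_smul_left, CT.classInner_sum_left]
    have hterm : ∀ g : G, classInner (CT.conjFun A g θ) θ = if g ∈ A then 1 else 0 := by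
      intro g
      split_ifs with hgA
      · rw [CT.conjFun_of_mem A (CT.isClassFunction_of_isIrr hθ) hgA, CT.irr_inner_self hθ]
      · refine CT.irr_inner_of_ne (CT.isIrrCharacter_conjFun A g hθ) hθ fun heq => ?_
        obtain ⟨a, ha⟩ := hg g hgA
        exact ha (ZMod.injective_stdAddChar (congrFun heq a))
    rw [Finset.sum_congr rfl fun g _ => hterm g, Finset.sum_boole,
      ← Fintype.card_subtype, ← Nat.card_eq_fintype_card]
    exact inv_mul_cancel₀ CT.card_ne_zero
  · rw [CT.indFun_one_eval]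
    show (A.index : ℂ) * ((ν 1 : ℂˣ) : ℂ) = _
    simp

/-- Products of irreducible characters are irreducible on a direct product. -/
theorem isIrr_prod {H : Type u} {K : Type v} [Group H] [Fintype H] [Group K] [Fintype K]
    {χ : H → ℂ} {ψ : K → ℂ} (hχ : IsIrrCharacter H χ) (hψ : IsIrrCharacter K ψ) :
    IsIrrCharacter (H × K) (fun x => χ x.1 * ψ x.2) := by
  have hc : IsCharacter (H × K) (fun x => χ x.1 * ψ x.2) :=
    CT.isCharacter_mul (CT.isCharacter_comp (MonoidHom.fst H K) (CT.isCharacter_of_isIrr hχ))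
      (CT.isCharacter_comp (MonoidHom.snd H K) (CT.isCharacter_of_isIrr hψ))
  refine CT.isIrr_of_inner_self hc ?_
  have h1 := CT.irr_inner_self hχ
  have h2 := CT.irr_inner_self hψ
  simp only [classInner] at h1 h2 ⊢
  calc _ = ((Nat.card H : ℂ)⁻¹ * ∑ h : H, χ h * conj (χ h)) *
        ((Nat.card K : ℂ)⁻¹ * ∑ k : K, ψ k * conj (ψ k)) := by
        rw [Nat.card_prod, Nat.cast_mul, Fintype.sum_prod_type, mul_mul_mul_comm, ← mul_inv,
          Finset.sum_mul_sum]
        congr 1
        refine Finset.sum_congr rfl fun h _ => Finset.sum_congr rfl fun k _ => ?_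
        rw [map_mul]
        ring
    _ = 1 := by rw [h1, h2, one_mul]

/-- The automorphism `(i, j, k) ↦ (-i, j, -k)`. -/
def flip3 : MulAut H3 where
  toFun p := ⟨-p.i, p.j, -p.k⟩
  invFun p := ⟨-p.i, p.j, -p.k⟩
  left_inv p := by ext <;> simp
  right_inv p := by ext <;> simp
  map_mul' p q := by ext <;> simp <;> ring

theorem flip3_sq : flip3 * flip3 = 1 := MulEquiv.ext (by decide)

def phi54 : Multiplicative (ZMod 2) →* MulAut H3 where
  toFun t := if t.toAdd = 0 then 1 else flip3
  map_one' := by simp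
  map_mul' s t := by
    revert s t
    have h : ∀ b : ZMod 2, b = 0 ∨ b = 1 := by decide
    intro s t
    rcases h s.toAdd with hs | hs <;> rcases h t.toAdd with ht | ht <;>
      simp [hs, ht, flip3_sq, show (1 : ZMod 2) + 1 = 0 by decide]

abbrev G54 := H3 ⋊[phi54] Multiplicative (ZMod 2)

instance : Fintype G54 := Fintype.ofEquiv _ SemidirectProduct.equivProd.symm

/-- The abelian normal subgroup `i = 0` of index `6`. -/
def A54 : Subgroup G54 where
  carrier := {g | g.right = 1 ∧ g.left.i = 0}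
  mul_mem' := fun {a b} ha hb => ⟨by rw [SemidirectProduct.mul_right, ha.1, hb.1, mul_one], by
    rw [SemidirectProduct.mul_left, ha.1, map_one, MulAut.one_apply, H3.mul_i, ha.2, hb.2, add_zero]⟩
  one_mem' := ⟨rfl, rfl⟩
  inv_mem' := fun {a} ha => ⟨by rw [SemidirectProduct.inv_right, ha.1, inv_one], by
    rw [SemidirectProduct.inv_left, ha.1, inv_one, map_one, MulAut.one_apply, H3.inv_i, ha.2, neg_zero]⟩

theorem mem_A54 (g : G54) : g ∈ A54 ↔ g.right = 1 ∧ g.left.i = 0 := Iff.rfl

theorem normal_A54 : A54.Normal := ⟨by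
  have h : ∀ n : G54, n.right = 1 ∧ n.left.i = 0 → ∀ g : G54,
      (g * n * g⁻¹).right = 1 ∧ (g * n * g⁻¹).left.i = 0 := by decide +kernel
  exact h⟩

theorem inertia_A54 : ∀ g : G54, ¬ (g.right = 1 ∧ g.left.i = 0) →
    ∃ a : G54, (a.right = 1 ∧ a.left.i = 0) ∧ (g * a * g⁻¹).left.k ≠ a.left.k := by
  decide +kernel

theorem card_G54 : Nat.card G54 = 54 := by
  rw [Nat.card_congr SemidirectProduct.equivProd, Nat.card_prod, H3.card]
  simp

theorem exists_irr_six : ∃ χ : G54 → ℂ, IsIrrCharacter G54 χ ∧ χ 1 = 6 := by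
  haveI := normal_A54
  obtain ⟨χ, hχ, h1⟩ := exists_irr_of_inertia A54 (n := 3)
    (fun a => (a : G54).left.k)
    (fun a b => by
      show ((a : G54) * b).left.k = (a : G54).left.k + (b : G54).left.k
      rw [SemidirectProduct.mul_left, a.2.1, map_one, MulAut.one_apply, H3.mul_k, a.2.2, zero_mul,
        add_zero])
    (fun g hg => by
      obtain ⟨a, ha, hne⟩ := inertia_A54 g hg
      exact ⟨⟨a, ha⟩, hne⟩)
  refine ⟨χ, hχ, ?_⟩
  have hA : Nat.card A54 = 9 := by
    rw [show Nat.card A54 = Nat.card {g : G54 // g.right = 1 ∧ g.left.i = 0} from rfl,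
      Nat.card_eq_fintype_card]
    decide +kernel
  have h2 := Subgroup.card_mul_index A54
  rw [hA, card_G54] at h2
  rw [h1, show A54.index = 6 by omega]
  norm_num

/-- The companion map of `X ^ 3 + X + 1` over `ZMod 2`. -/
def rot : MulAut (Multiplicative (ZMod 2 × ZMod 2 × ZMod 2)) :=
  AddEquiv.toMultiplicative
    { toFun := fun v => (v.2.2, v.1 + v.2.2, v.2.1)
      invFun := fun v => (v.2.1 + v.1, v.2.2, v.1)
      left_inv := by intro v; revert v; decide
      right_inv := by intro v; revert v; decide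
      map_add' := fun a b => by simp only [Prod.fst_add, Prod.snd_add, Prod.mk_add_mk]; ext <;> simp <;> ring }

theorem rot_pow : rot ^ 7 = 1 := MulEquiv.ext (by decide)

def phi56 : Multiplicative (ZMod 7) →* MulAut (Multiplicative (ZMod 2 × ZMod 2 × ZMod 2)) where
  toFun t := rot ^ t.toAdd.val
  map_one' := by simp
  map_mul' s t := by
    rw [toAdd_mul, ZMod.val_add, ← pow_add]
    exact (pow_eq_pow_mod _ rot_pow).symm

abbrev G56 := Multiplicative (ZMod 2 × ZMod 2 × ZMod 2) ⋊[phi56] Multiplicative (ZMod 7)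

instance : Fintype G56 := Fintype.ofEquiv _ SemidirectProduct.equivProd.symm

theorem inertia_56 : ∀ g : G56, g.right ≠ 1 →
    ∃ v : Multiplicative (ZMod 2 × ZMod 2 × ZMod 2),
      (g * SemidirectProduct.inl v * g⁻¹).left.toAdd.1 ≠ v.toAdd.1 := by
  decide +kernel

theorem card_G56 : Nat.card G56 = 56 := by
  rw [Nat.card_congr SemidirectProduct.equivProd]
  simp

theorem exists_irr_seven : ∃ χ : G56 → ℂ, IsIrrCharacter G56 χ ∧ χ 1 = 7 := by
  obtain ⟨χ, hχ, h1⟩ := exists_irr_of_inertia
    (SemidirectProduct.rightHom (φ := phi56)).ker (n := 2)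
    (fun a => (a : G56).left.toAdd.1)
    (fun a b => by
      have ha : (a : G56).right = 1 := a.2
      show ((a : G56) * b).left.toAdd.1 = (a : G56).left.toAdd.1 + (b : G56).left.toAdd.1
      rw [SemidirectProduct.mul_left, ha, map_one, MulAut.one_apply, toAdd_mul, Prod.fst_add])
    (fun g hg => by
      obtain ⟨v, hv⟩ := inertia_56 g hg
      exact ⟨⟨SemidirectProduct.inl v, SemidirectProduct.right_inl (φ := phi56) v⟩, hv⟩)
  refine ⟨χ, hχ, ?_⟩
  have hidx : (SemidirectProduct.rightHom (φ := phi56)).ker.index = 7 := by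
    rw [Subgroup.index_ker, MonoidHom.range_eq_top.2 SemidirectProduct.rightHom_surjective]
    simp
  rw [h1, hidx]
  norm_num

/-- The solvable group of order `6048`. -/
abbrev H := (G54 × Multiplicative (ZMod 2)) × G56

theorem card_H : Nat.card H = 6048 := by
  rw [Nat.card_prod, Nat.card_prod, card_G54, card_G56]
  simp

theorem solvable_H : Group.IsSolvable H := by
  haveI : Group.IsSolvable H3 := by
    haveI := H3.isPGroup.isNilpotent
    infer_instance
  haveI : Group.IsSolvable G54 :=
    Group.isSolvable_of_ker_le_range (SemidirectProduct.inl (φ := phi54)) SemidirectProduct.rightHom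
      (le_of_eq SemidirectProduct.range_inl_eq_ker_rightHom.symm)
  haveI : Group.IsSolvable G56 :=
    Group.isSolvable_of_ker_le_range (SemidirectProduct.inl (φ := phi56)) SemidirectProduct.rightHom
      (le_of_eq SemidirectProduct.range_inl_eq_ker_rightHom.symm)
  infer_instance

theorem exists_irr_fortytwo : ∃ χ : H → ℂ, IsIrrCharacter H χ ∧ χ 1 = 42 := by
  obtain ⟨χ, hχ, h6⟩ := exists_irr_six
  obtain ⟨ψ, hψ, h7⟩ := exists_irr_seven
  refine ⟨_, isIrr_prod (isIrr_prod hχ (CT.isIrrCharacter_one (G := Multiplicative (ZMod 2)))) hψ, ?_⟩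
  show χ 1 * 1 * ψ 1 = 42
  rw [h6, h7]
  norm_num

end Cfsg.Agent.Recog.TriangleDeg
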